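import Groth.Agent.FlatDvr.FibreStalk
import Groth.Agent.DimFormula.ClosedSub
import Mathlib.AlgebraicGeometry.Morphisms.UniversallyOpen

/-!
# Morphisms to the spectrum of a field, and products over a field
-/

set_option autoImplicit false
set_option linter.style.haveILetI false

open AlgebraicGeometry CategoryTheory Limits

namespace Groth.Agent.AssLib

universe u

variable {k : Type u} [Field k]

theorem flat_over_field {X : Scheme.{u}} (f : X ⟶ Spec (CommRingCat.of k)) : Flat f := by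
  refine Flat.of_stalkMap f fun x => ?_
  letI := (f.stalkMap x).hom.toAlgebra
  have hF : IsField ((Spec (CommRingCat.of k)).presheaf.stalk (f x)) :=
    ⟨⟨0, 1, zero_ne_one⟩, mul_comm, fun {a} ha =>
      isUnit_iff_exists_inv.1 ((FlatDvr.eq_zero_or_isUnit_stalk_field k _ a).resolve_left ha)⟩
  letI := hF.toField
  show Module.Flat _ _
  infer_instance

theorem exists_lift_in_closed {X Y : Scheme.{u}} (f : X ⟶ Spec (CommRingCat.of k))
    (g : Y ⟶ Spec (CommRingCat.of k)) {w : ↥(pullback f g)} {ξ : X}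
    {Y' : Set Y} (h1 : IsClosed Y') (h2 : pullback.snd f g w ∈ Y') (h3 : ξ ⤳ pullback.fst f g w) :
    ∃ a, a ⤳ w ∧ pullback.fst f g a = ξ ∧ pullback.snd f g a ∈ Y' := by
  let C : TopologicalSpace.Closeds Y := ⟨Y', h1⟩
  let j := (Scheme.IdealSheafData.vanishingIdeal C).subschemeι
  have hr : Set.range j = Y' := DimFormula.range_vanishingIdeal C
  let q : pullback f (j ≫ g) ⟶ pullback f g := pullback.map f (j ≫ g) f g (𝟙 X) j (𝟙 _) (by simp) (by simp)
  have hq1 : q ≫ pullback.fst f g = pullback.fst f (j ≫ g) := by simp [q, pullback.lift_fst]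
  have hq2 : q ≫ pullback.snd f g = pullback.snd f (j ≫ g) ≫ j := by simp [q, pullback.lift_snd]
  obtain ⟨z, hz⟩ : pullback.snd f g w ∈ Set.range j := by rw [hr]; exact h2
  have hqr : w ∈ Set.range q := by
    rw [Scheme.Pullback.range_map]
    exact ⟨⟨pullback.fst f g w, rfl⟩, ⟨z, hz⟩⟩
  haveI := flat_over_field (j ≫ g)
  obtain ⟨v, rfl⟩ := hqr
  have h3' : ξ ⤳ pullback.fst f (j ≫ g) v := by rwa [← hq1, Scheme.Hom.comp_apply]
  obtain ⟨a, ha, hfa⟩ := Flat.generalizingMap (pullback.fst f (j ≫ g)) h3'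
  refine ⟨q a, ha.map q.continuous, ?_, ?_⟩
  · rw [← Scheme.Hom.comp_apply, hq1, hfa]
  · rw [← Scheme.Hom.comp_apply, hq2, ← hr]
    exact ⟨_, rfl⟩

theorem exists_lift_in_closed' {X Y : Scheme.{u}} (f : X ⟶ Spec (CommRingCat.of k))
    (g : Y ⟶ Spec (CommRingCat.of k)) {w : ↥(pullback f g)} {η : Y}
    {X' : Set X} (h1 : IsClosed X') (h2 : pullback.fst f g w ∈ X') (h3 : η ⤳ pullback.snd f g w) :
    ∃ a, a ⤳ w ∧ pullback.snd f g a = η ∧ pullback.fst f g a ∈ X' := by
  let e := pullbackSymmetry f g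
  have hw : e.inv (e.hom w) = w := by rw [← Scheme.Hom.comp_apply, e.hom_inv_id]; rfl
  obtain ⟨a, ha, ha1, ha2⟩ := exists_lift_in_closed g f (w := e.hom w) (ξ := η) h1
    (by rw [← Scheme.Hom.comp_apply, pullbackSymmetry_hom_comp_snd]; exact h2)
    (by rw [← Scheme.Hom.comp_apply, pullbackSymmetry_hom_comp_fst]; exact h3)
  refine ⟨e.inv a, hw ▸ ha.map e.inv.continuous, ?_, ?_⟩
  · rw [← Scheme.Hom.comp_apply, pullbackSymmetry_inv_comp_snd, ha1]
  · rw [← Scheme.Hom.comp_apply, pullbackSymmetry_inv_comp_fst]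
    exact ha2

end Groth.Agent.AssLib
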