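import Mathlib.RingTheory.Ideal.GoingUp
import Mathlib.RingTheory.AlgebraicIndependent.TranscendenceBasis
import Mathlib.RingTheory.Flat.Stability
import Mathlib.RingTheory.TensorProduct.MvPolynomial
import Mathlib.RingTheory.Localization.AtPrime.Basic
import Mathlib.RingTheory.Flat.TorsionFree
import Mathlib.FieldTheory.IntermediateField.Adjoin.Basic

/-!
# Tensor products of fields have no embedded primes (EGA IV 4.2.4)
-/

set_option autoImplicit false
set_option linter.style.haveILetI false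

open TensorProduct

namespace Groth.Agent.AssLib

universe u

/-- The maximal ideal of a local ring is an associated prime. -/
def DepthZero (T : Type u) [CommRing T] [IsLocalRing T] : Prop :=
  ∃ e : T, e ≠ 0 ∧ ∀ r ∈ IsLocalRing.maximalIdeal T, r * e = 0

/-- Every prime of a local ring is the maximal ideal. -/
def DimZero (T : Type u) [CommRing T] [IsLocalRing T] : Prop :=
  ∀ P : Ideal T, P.IsPrime → P = IsLocalRing.maximalIdeal T

theorem isDomain_tensor_adjoin {k K L : Type u} [Field k] [Field K] [Field L] [Algebra k K] [Algebra k L]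
    {σ : Type u} {x : σ → L} (hx : AlgebraicIndependent k x) :
    IsDomain (↥(IntermediateField.adjoin k (Set.range x)) ⊗[k] K) := by
  let E := IntermediateField.adjoin k (Set.range x)
  let φ : MvPolynomial σ k →ₐ[k] ↥E := MvPolynomial.aeval fun i => ⟨x i, IntermediateField.subset_adjoin _ _ ⟨i, rfl⟩⟩
  have hφ : ∀ p, (φ p : L) = MvPolynomial.aeval x p := fun p => by
    have : (E.val.comp φ) = MvPolynomial.aeval x := MvPolynomial.algHom_ext fun i => by simp [φ]
    exact DFunLike.congr_fun this p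
  have hφi : Function.Injective φ := fun a b h => hx (by rw [← hφ, ← hφ, h])
  let ψ : MvPolynomial σ k ⊗[k] K →ₐ[k] ↥E ⊗[k] K := Algebra.TensorProduct.map φ (AlgHom.id k K)
  have hψ : Function.Injective ψ := Module.Flat.rTensor_preserves_injective_linearMap φ.toLinearMap hφi
  haveI : IsDomain (MvPolynomial σ k ⊗[k] K) :=
    ((Algebra.TensorProduct.comm k (MvPolynomial σ k) K).toRingEquiv.trans
      (MvPolynomial.algebraTensorAlgEquiv k K).toRingEquiv).toMulEquiv.isDomain _
  have hmem : ∀ z : ↥E ⊗[k] K, ∃ (s : MvPolynomial σ k) (a : MvPolynomial σ k ⊗[k] K), s ≠ 0 ∧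
      ψ a = ((φ s) ⊗ₜ[k] (1 : K)) * z := by
    intro z
    induction z with
    | zero => exact ⟨1, 0, one_ne_zero, by simp⟩
    | tmul e c =>
      obtain ⟨r, s, hrs⟩ := IntermediateField.mem_adjoin_range_iff k x e.1 |>.1 e.2
      rcases eq_or_ne s 0 with rfl | hs
      · refine ⟨1, 0, one_ne_zero, ?_⟩
        obtain rfl : e = 0 := Subtype.ext (by simpa using hrs)
        simp
      · refine ⟨s, r ⊗ₜ c, hs, ?_⟩
        have : φ r = φ s * e := by
          refine Subtype.ext ?_
          rw [MulMemClass.coe_mul, hφ, hφ, hrs, mul_div_cancel₀ _ (fun h => hs (hx (h.trans (map_zero _).symm)))]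
        simp [ψ, this]
    | add a b ha hb =>
      obtain ⟨s, a', hs, ha⟩ := ha
      obtain ⟨t, b', ht, hb⟩ := hb
      refine ⟨s * t, (t ⊗ₜ 1) * a' + (s ⊗ₜ 1) * b', mul_ne_zero hs ht, ?_⟩
      rw [map_add, map_mul, map_mul, ha, hb]
      simp only [ψ, Algebra.TensorProduct.map_tmul, map_one, map_mul]
      rw [show (φ s * φ t) ⊗ₜ[k] (1 : K) = ((φ s) ⊗ₜ[k] (1 : K)) * ((φ t) ⊗ₜ[k] (1 : K)) by simp]
      ring
  haveI : Nontrivial (↥E ⊗[k] K) := hψ.nontrivial
  have hunit : ∀ s : MvPolynomial σ k, s ≠ 0 → IsUnit ((φ s) ⊗ₜ[k] (1 : K)) := fun s hs =>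
    (isUnit_iff_ne_zero.2 ((map_ne_zero_iff _ hφi).2 hs)).map
      (Algebra.TensorProduct.includeLeftRingHom (R := k) (A := ↥E) (B := K))
  haveI : NoZeroDivisors (↥E ⊗[k] K) := ⟨fun {y z} hyz => by
    obtain ⟨s, a, hs, ha⟩ := hmem y
    obtain ⟨t, b, ht, hb⟩ := hmem z
    have : ψ (a * b) = ψ 0 := by
      rw [map_mul, ha, hb, map_zero]
      linear_combination ((φ s) ⊗ₜ[k] (1 : K)) * ((φ t) ⊗ₜ[k] (1 : K)) * hyz
    rcases mul_eq_zero.1 (hψ this) with rfl | rfl
    · left
      rw [map_zero] at ha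
      exact (hunit s hs).mul_left_cancel (by rw [← ha, mul_zero])
    · right
      rw [map_zero] at hb
      exact (hunit t ht).mul_left_cancel (by rw [← hb, mul_zero])⟩
  exact NoZeroDivisors.to_isDomain (↥E ⊗[k] K)

/-- In a flat integral algebra over a domain, primes whose local ring has depth zero are minimal. -/
theorem eq_of_depthZero_of_integral {A C : Type u} [CommRing A] [IsDomain A] [CommRing C] [Algebra A C]
    [Module.Flat A C] [Algebra.IsIntegral A C] (Q : Ideal C) [Q.IsPrime]
    (h : DepthZero (Localization.AtPrime Q)) (P : Ideal C) [P.IsPrime] (hPQ : P ≤ Q) : P = Q := by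
  by_contra hne
  have hlt := Ideal.IsIntegral.comap_lt_comap (R := A) (lt_of_le_of_ne hPQ hne)
  obtain ⟨a, haQ, haP⟩ := SetLike.exists_of_lt hlt
  have ha0 : a ≠ 0 := fun h => haP (by simp [h])
  have hreg : IsSMulRegular C a := Module.Flat.isSMulRegular_of_nonZeroDivisors (mem_nonZeroDivisors_of_ne_zero ha0)
  have hm : algebraMap C (Localization.AtPrime Q) (algebraMap A C a) ∈ IsLocalRing.maximalIdeal _ := by
    rw [IsLocalization.AtPrime.to_map_mem_maximal_iff _ Q]
    exact haQ
  obtain ⟨e, he0, he⟩ := h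
  replace hm := he _ hm
  obtain ⟨⟨c, s⟩, hcs⟩ := IsLocalization.surj Q.primeCompl e
  have h0 : algebraMap C (Localization.AtPrime Q) (algebraMap A C a * c) = 0 := by
    rw [map_mul, ← hcs, ← mul_assoc, hm, zero_mul]
  obtain ⟨m, hm'⟩ := (IsLocalization.map_eq_zero_iff Q.primeCompl _ _).1 h0
  have hmc : (m : C) * c = 0 := hreg (show a • ((m : C) * c) = a • 0 by
    rw [smul_zero, Algebra.smul_def, mul_left_comm]; exact hm')
  have : e = 0 := by
    refine (IsLocalization.map_units (Localization.AtPrime Q) s).mul_left_eq_zero.1 ?_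
    rw [hcs]
    exact (IsLocalization.map_eq_zero_iff Q.primeCompl _ _).2 ⟨m, hmc⟩
  exact he0 this

theorem DepthZero.of_equiv {T T' : Type u} [CommRing T] [IsLocalRing T] [CommRing T'] [IsLocalRing T']
    (e : T ≃+* T') (h : DepthZero T) : DepthZero T' := by
  obtain ⟨x, hx0, hx⟩ := h
  refine ⟨e x, (map_ne_zero_iff e e.injective).2 hx0, fun r hr => ?_⟩
  have hm : e.symm r ∈ IsLocalRing.maximalIdeal T := by
    rw [IsLocalRing.mem_maximalIdeal, mem_nonunits_iff] at hr ⊢
    rwa [MulEquiv.isUnit_map]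
  have := congrArg e (hx _ hm)
  rwa [map_mul, e.apply_symm_apply, map_zero] at this

theorem eq_of_depthZero_tensor_aux {k K L E : Type u} [Field k] [Field K] [Field L] [Field E] [Algebra k K] [Algebra k L]
    [Algebra k E] [Algebra E L] [IsScalarTower k E L] [Algebra.IsIntegral E L] [IsDomain (E ⊗[k] K)]
    (Q : Ideal (L ⊗[k] K)) [Q.IsPrime] (h : DepthZero (Localization.AtPrime Q)) (P : Ideal (L ⊗[k] K)) [P.IsPrime]
    (hPQ : P ≤ Q) : P = Q := by
  let e : ((E ⊗[k] K) ⊗[E] L) ≃+* L ⊗[k] K := (Algebra.TensorProduct.comm E (E ⊗[k] K) L).toRingEquiv.trans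
      (Algebra.TensorProduct.cancelBaseChange k E L L K).toRingEquiv
  haveI : Module.Flat (E ⊗[k] K) ((E ⊗[k] K) ⊗[E] L) := inferInstance
  haveI : Algebra.IsIntegral (E ⊗[k] K) ((E ⊗[k] K) ⊗[E] L) := inferInstance
  haveI : (Q.comap e.toRingHom).IsPrime := Ideal.comap_isPrime _ _
  haveI : (P.comap e.toRingHom).IsPrime := Ideal.comap_isPrime _ _
  let e' : Localization.AtPrime (Q.comap e.toRingHom) ≃+* Localization.AtPrime Q :=
    IsLocalization.ringEquivOfRingEquiv (M := (Q.comap e.toRingHom).primeCompl) (T := Q.primeCompl) _ _ e (Submonoid.ext fun y => by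
      constructor
      · rintro ⟨c, hc, rfl⟩
        exact hc
      · exact fun hy => ⟨e.symm y, fun hm => hy (by simpa using hm), e.apply_symm_apply y⟩)
  have := eq_of_depthZero_of_integral (A := E ⊗[k] K) (Q.comap e.toRingHom) (h.of_equiv e'.symm)
    (P.comap e.toRingHom) (Ideal.comap_mono hPQ)
  exact Ideal.comap_injective_of_surjective _ e.surjective this

/-- Primes of depth zero of a tensor product of fields are minimal. -/
theorem eq_of_depthZero_tensor_fields {k K L : Type u} [Field k] [Field K] [Field L] [Algebra k K] [Algebra k L]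
    (Q : Ideal (L ⊗[k] K)) [Q.IsPrime] (h : DepthZero (Localization.AtPrime Q)) (P : Ideal (L ⊗[k] K)) [P.IsPrime]
    (hPQ : P ≤ Q) : P = Q := by
  obtain ⟨σ, x, hx⟩ := exists_isTranscendenceBasis' k L
  let E := IntermediateField.adjoin k (Set.range x)
  haveI : Algebra.IsAlgebraic ↥E L := hx.isAlgebraic_field
  haveI := isDomain_tensor_adjoin (K := K) hx.1
  haveI : Algebra.IsIntegral ↥E L := inferInstance
  exact eq_of_depthZero_tensor_aux (E := ↥E) Q h P hPQ

end Groth.Agent.AssLib
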