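import Groth.Agent.AssLib.Apply
import Groth.Agent.AssLib.FlatField
import Groth.Agent.AssLib.NoEmbTensor
import Groth.Agent.FlatDvr.FibreStalk
import Groth.Agent.PnCoh.Unit
import Groth.Agent.FibDim.Comp
import Groth.Agent.S9670

/-!
# Associated points of flat morphisms and of field extensions (EGA IV 3.3, 4.2)
-/

set_option autoImplicit false
set_option linter.style.haveILetI false

open AlgebraicGeometry CategoryTheory Limits IsLocalRing

namespace Groth.Agent.AssLib

universe u

theorem depthZero_iff {T : Type u} [CommRing T] [IsLocalRing T] [IsNoetherianRing T] :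
    DepthZero T ↔ maximalIdeal T ∈ associatedPrimes T T := by
  refine ⟨fun ⟨e, he0, he⟩ => ?_, fun h => ?_⟩
  · refine isAssociatedPrime_iff.2 ⟨inferInstance, e, le_antisymm (fun r hr => Submodule.mem_colon_singleton.2 ?_) ?_⟩
    · rw [Submodule.mem_bot, smul_eq_mul]; exact he r hr
    · refine le_maximalIdeal fun htop => he0 ?_
      have : (1 : T) ∈ Submodule.colon (⊥ : Submodule T T) {e} := htop ▸ Submodule.mem_top
      rwa [Submodule.mem_colon_singleton, Submodule.mem_bot, one_smul] at this
  · obtain ⟨hp, e, he⟩ := isAssociatedPrime_iff.1 h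
    refine ⟨e, fun h0 => hp.ne_top ?_, fun r hr => ?_⟩
    · rw [he, h0]
      exact eq_top_iff.2 fun r _ => Submodule.mem_colon_singleton.2 (by simp)
    · rw [he, Submodule.mem_colon_singleton, Submodule.mem_bot] at hr
      exact hr

theorem mem_ass_structureModule_iff {X : Scheme.{u}} [IsLocallyNoetherian X] (x : X) :
    x ∈ AssSch.Ass (Coh.structureModule X) ↔ DepthZero (X.presheaf.stalk x) := by
  obtain ⟨e⟩ := nonempty_stalkUnitEquiv (X := X) x
  rw [mem_ass_def, ← LinearEquiv.AssociatedPrimes.eq e, depthZero_iff]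

theorem dimZero_iff {X : Scheme.{u}} (x : X) :
    DimZero (X.presheaf.stalk x) ↔ ∀ y, y ⤳ x → y = x := by
  constructor
  · intro h y hy
    obtain ⟨p, rfl⟩ : y ∈ Set.range (X.fromSpecStalk x) := by rw [Scheme.range_fromSpecStalk]; exact hy
    obtain rfl : p = closedPoint (X.presheaf.stalk x) := PrimeSpectrum.ext (h p.asIdeal p.isPrime)
    exact Scheme.fromSpecStalk_closedPoint
  · intro h P hP
    have hy : X.fromSpecStalk x (⟨P, hP⟩ : PrimeSpectrum _) ⤳ x := by
      have : X.fromSpecStalk x (⟨P, hP⟩ : PrimeSpectrum _) ∈ Set.range (X.fromSpecStalk x) := ⟨_, rfl⟩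
      rwa [Scheme.range_fromSpecStalk] at this
    exact congrArg PrimeSpectrum.asIdeal
      ((X.fromSpecStalk x).isEmbedding.injective ((h _ hy).trans Scheme.fromSpecStalk_closedPoint.symm))

section Flat

variable {R S : Type u} [CommRing R] [IsLocalRing R] [IsNoetherianRing R] [CommRing S] [IsLocalRing S]
  [IsNoetherianRing S] [Algebra R S] [Module.Flat R S] [IsLocalHom (algebraMap R S)]
  {T : Type u} [CommRing T] [IsLocalRing T] (π : S →+* T) (hπ : Function.Surjective π)
  (hker : RingHom.ker π = (maximalIdeal R).map (algebraMap R S))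

include hπ hker in
/-- The closed fibre of a flat algebra over an artinian local ring has depth zero if the algebra has. -/
theorem depthZero_fibre (hR : DimZero R) (h : DepthZero S) : DepthZero T := by
  obtain ⟨e, he0, he⟩ := h
  have h1 : maximalIdeal S ∈ FlatCA.ass S (TensorProduct R S R) := by
    refine ⟨inferInstance, TensorProduct.tmul R e 1, le_antisymm (fun r hr => ?_) (le_maximalIdeal fun htop => he0 ?_)⟩
    · rw [Submodule.mem_annihilator_span_singleton, TensorProduct.smul_tmul', smul_eq_mul, he r hr,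
        TensorProduct.zero_tmul]
    · have h2 : (1 : S) • TensorProduct.tmul R e (1 : R) = 0 :=
        (Submodule.mem_annihilator_span_singleton _ _).1 (htop ▸ Submodule.mem_top)
      rw [one_smul] at h2
      simpa using congrArg (TensorProduct.rid R S) h2
  obtain ⟨-, x, hx⟩ := S9670.ass_tensor_subset S R h1
  have hcomap : (maximalIdeal S).comap (algebraMap R S) = maximalIdeal R :=
    hR _ inferInstance
  obtain ⟨c, rfl⟩ := Submodule.Quotient.mk_surjective _ x
  have hI : ((maximalIdeal S).comap (algebraMap R S)).map (algebraMap R S) • (⊤ : Submodule S S) = RingHom.ker π := by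
    rw [hcomap, hker, smul_eq_mul, Ideal.mul_top]
  refine ⟨π c, fun h0 => (maximalIdeal.isMaximal S).ne_top ?_, fun r hr => ?_⟩
  · rw [hx, (Submodule.Quotient.mk_eq_zero _).2 (hI.ge h0)]
    simp [Submodule.annihilator_bot]
  · obtain ⟨s, rfl⟩ := hπ r
    have hs : s ∈ maximalIdeal S := fun hu => hr (hu.map π)
    rw [hx, Submodule.mem_annihilator_span_singleton, ← Submodule.Quotient.mk_smul, Submodule.Quotient.mk_eq_zero,
      hI] at hs
    rw [← map_mul]
    exact hs

/-- Depth zero goes up along flat local homomorphisms with zero-dimensional closed fibre. -/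
theorem depthZero_up (h : DepthZero R) (hT : ∀ P : Ideal S, P.IsPrime → (maximalIdeal R).map (algebraMap R S) ≤ P → P = maximalIdeal S) :
    DepthZero S := by
  obtain ⟨e, he0, he⟩ := h
  haveI : Module.FaithfullyFlat R S := Module.FaithfullyFlat.of_flat_of_isLocalHom
  have he' : algebraMap R S e ≠ 0 := fun h0 => he0 (FaithfulSMul.algebraMap_injective R S (h0.trans (map_zero _).symm))
  obtain ⟨P, hP, hle⟩ := exists_le_isAssociatedPrime_of_isNoetherianRing S (algebraMap R S e) he'
  rw [depthZero_iff]
  rwa [hT P hP.1 (Ideal.map_le_iff_le_comap.2 fun r hr => hle (Submodule.mem_colon_singleton.2 (by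
    rw [Submodule.mem_bot, smul_eq_mul, ← map_mul, he r hr, map_zero])))] at hP

end Flat

variable {X Y : Scheme.{u}} [IsLocallyNoetherian X] [IsLocallyNoetherian Y] (f : X ⟶ Y) [Flat f]

/-- Associated points of `X` over maximal points of `Y` are maximal if those of the fibres are. -/
theorem eq_of_specializes_of_fibre {x : X} (hx : x ∈ AssSch.Ass (Coh.structureModule X))
    (hy : ∀ y, y ⤳ f x → y = f x)
    (hfib : ∀ w : ↥(f.fiber (f x)), DepthZero ((f.fiber (f x)).presheaf.stalk w) → ∀ w', w' ⤳ w → w' = w)
    {x' : X} (hx' : x' ⤳ x) : x' = x := by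
  obtain ⟨w', rfl⟩ : x' ∈ Set.range (f.fiberι (f x)) := by
    rw [Scheme.Hom.range_fiberι]; exact hy _ (hx'.map f.continuous)
  have e := f.fiberι_asFiber x
  replace hx' := hx'.trans (specializes_of_eq e.symm)
  refine (congrArg (f.fiberι (f x)) (hfib (f.asFiber x) ?_ w'
    ((f.fiberι (f x)).isEmbedding.isInducing.specializes_iff.1 hx'))).trans e
  replace hx := (congrArg (· ∈ AssSch.Ass (Coh.structureModule X)) e).mpr hx
  rw [mem_ass_structureModule_iff] at hx
  let φ := (f.stalkMap (f.fiberι (f x) (f.asFiber x))).hom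
  letI := φ.toAlgebra
  haveI : IsLocalHom (algebraMap (Y.presheaf.stalk (f (f.fiberι (f x) (f.asFiber x))))
      (X.presheaf.stalk (f.fiberι (f x) (f.asFiber x)))) :=
    inferInstanceAs (IsLocalHom φ)
  haveI : Module.Flat (Y.presheaf.stalk (f (f.fiberι (f x) (f.asFiber x))))
      (X.presheaf.stalk (f.fiberι (f x) (f.asFiber x))) := Flat.stalkMap f _
  refine depthZero_fibre ((f.fiberι (f x)).stalkMap (f.asFiber x)).hom
    ((f.fiberι (f x)).stalkMap_surjective _) (FlatDvr.ker_stalkMap_fiberι f _) ((dimZero_iff _).2 ?_) hx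
  exact fun y hy' => (hy y (hy'.trans (specializes_of_eq (congrArg f e)))).trans (congrArg f e).symm

/-- An associated point of the base is the image of an associated point. -/
theorem exists_ass_over (hsurj : Function.Surjective f) [QuasiCompact f] {y : Y}
    (hy : y ∈ AssSch.Ass (Coh.structureModule Y)) : ∃ x ∈ AssSch.Ass (Coh.structureModule X), f x = y := by
  obtain ⟨a, rfl⟩ := hsurj y
  obtain ⟨m, hma, hm⟩ := FibDim.exists_maximal_generization (f.asFiber a)
  let x := f.fiberι (f a) m
  have hfx : f x = f a := FlatDvr.fiberι_apply_eq f m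
  refine ⟨x, ?_, hfx⟩
  rw [mem_ass_structureModule_iff] at hy ⊢
  let φ := (f.stalkMap x).hom
  letI := φ.toAlgebra
  haveI : IsLocalHom (algebraMap (Y.presheaf.stalk (f x)) (X.presheaf.stalk x)) := inferInstanceAs (IsLocalHom φ)
  haveI : Module.Flat (Y.presheaf.stalk (f x)) (X.presheaf.stalk x) := Flat.stalkMap f _
  refine depthZero_up (hfx.symm ▸ hy) fun P hP hle => ?_
  have hker := FlatDvr.ker_stalkMap_fiberι f m
  have hsur := (f.fiberι (f a)).stalkMap_surjective m
  haveI := Ideal.map_isPrime_of_surjective hsur (hker.trans_le hle)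
  have h2 := (dimZero_iff (X := f.fiber (f a)) m).2 hm (P.map ((f.fiberι (f a)).stalkMap m).hom) inferInstance
  refine (maximalIdeal.isMaximal _).eq_of_le hP.ne_top ?_ |>.symm
  rw [← sup_eq_left.2 (hker.trans_le hle), ← Ideal.comap_map_of_surjective' _ hsur, h2]
  intro r hr hu
  exact hr (isUnit_of_map_unit _ r hu)

/-- The fibres of a base change to a field extension have no embedded points. -/
theorem eq_of_depthZero_fibre_bc {k K : Type u} [Field k] [Field K] [Algebra k K] {Z : Scheme.{u}}
    (f : Z ⟶ Spec (CommRingCat.of k)) (x : Z)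
    (w : ↥((pullback.fst f (Spec.map (CommRingCat.ofHom (algebraMap k K)))).fiber x))
    (h : DepthZero (((pullback.fst f (Spec.map (CommRingCat.ofHom (algebraMap k K)))).fiber x).presheaf.stalk w))
    (w' : ↥((pullback.fst f (Spec.map (CommRingCat.ofHom (algebraMap k K)))).fiber x)) (hw : w' ⤳ w) : w' = w := by
  let τ := Spec.map (CommRingCat.ofHom (algebraMap k K))
  let L := Z.residueField x
  obtain ⟨φ, hφ⟩ := Spec.map_surjective (R := CommRingCat.of k) (S := L) (Z.fromSpecResidueField x ≫ f)
  letI : Algebra k L := φ.hom.toAlgebra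
  have hφ' : Spec.map (CommRingCat.ofHom (algebraMap k L)) = Z.fromSpecResidueField x ≫ f := hφ
  let e : (pullback.fst f τ).fiber x ≅ Spec (CommRingCat.of (TensorProduct k L K)) :=
    pullbackSymmetry _ _ ≪≫ pullbackRightPullbackFstIso f τ (Z.fromSpecResidueField x) ≪≫
      pullback.congrHom hφ'.symm rfl ≪≫ pullbackSpecIso k L K
  let Q : PrimeSpectrum (TensorProduct k L K) := e.hom w
  let P : PrimeSpectrum (TensorProduct k L K) := e.hom w'
  have hPQ : P.asIdeal ≤ Q.asIdeal := (PrimeSpectrum.le_iff_specializes P Q).2 (hw.map e.hom.continuous)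
  haveI : IsIso (e.hom.stalkMap w) := inferInstance
  have h' : DepthZero (Localization.AtPrime Q.asIdeal) :=
    h.of_equiv ((asIso (e.hom.stalkMap w)).symm.commRingCatIsoToRingEquiv.trans
      (StructureSheaf.stalkIso (TensorProduct k L K) Q).toRingEquiv.symm)
  exact e.hom.homeomorph.injective (PrimeSpectrum.ext (eq_of_depthZero_tensor_fields Q.asIdeal h' P.asIdeal hPQ))

theorem mem_ass_of_maximal {Z : Scheme.{u}} [IsLocallyNoetherian Z] {z : Z} (hz : ∀ y, y ⤳ z → y = z) :
    z ∈ AssSch.Ass (Coh.structureModule Z) := by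
  obtain ⟨a, ha, haz⟩ := exists_ass_specializes (PnCoh.isQCoh_structureModule Z) (x := z) (by
    obtain ⟨e⟩ := nonempty_stalkUnitEquiv (X := Z) z
    intro h
    exact not_subsingleton (Z.presheaf.stalk z) e.toEquiv.subsingleton)
  exact hz a haz ▸ ha

/-- Without embedded points, associated points are maximal. -/
theorem noEmbedded_iff_maximal {Z : Scheme.{u}} [IsLocallyNoetherian Z] :
    AssSch.NoEmbedded (Coh.structureModule Z) ↔
      ∀ z ∈ AssSch.Ass (Coh.structureModule Z), ∀ y, y ⤳ z → y = z := by
  refine ⟨fun h z hz y hy => ?_, fun h x hx y _ hyx => (h x hx y hyx).symm⟩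
  obtain ⟨m, hmy, hm⟩ := FibDim.exists_maximal_generization y
  obtain rfl := h z hz m (mem_ass_of_maximal hm) (hmy.trans hy)
  exact (hy.antisymm hmy).eq

/-- Depth zero descends along flat local homomorphisms. -/
theorem depthZero_down {R S : Type u} [CommRing R] [IsLocalRing R] [IsNoetherianRing R] [CommRing S] [IsLocalRing S]
    [Algebra R S] [Module.Flat R S] [IsLocalHom (algebraMap R S)] (h : DepthZero S) : DepthZero R := by
  rw [depthZero_iff]
  by_contra hne
  obtain ⟨a, ha, hreg⟩ := (Alg6.exists_isSMulRegular_mem_iff (M := R) (maximalIdeal R)).2 fun p hp hle => hne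
    (((maximalIdeal.isMaximal _).eq_of_le hp.1.ne_top hle) ▸ hp)
  have hregS : IsSMulRegular S a := Module.Flat.isSMulRegular_of_nonZeroDivisors
    (mem_nonZeroDivisors_iff_right.2 fun z hz => hreg (show a • z = a • 0 by rw [smul_zero, smul_eq_mul, mul_comm]; exact hz))
  obtain ⟨e, he0, he⟩ := h
  refine he0 (hregS (show a • e = a • 0 from ?_))
  rw [smul_zero, Algebra.smul_def]
  exact he _ fun hu => ha (isUnit_of_map_unit _ a hu)

/-- The image of a depth zero point under a flat morphism has depth zero. -/
theorem depthZero_map {Z W : Scheme.{u}} [IsLocallyNoetherian W] (g : Z ⟶ W) [Flat g] {z : Z}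
    (h : DepthZero (Z.presheaf.stalk z)) : DepthZero (W.presheaf.stalk (g z)) := by
  letI := (g.stalkMap z).hom.toAlgebra
  haveI : IsLocalHom (algebraMap (W.presheaf.stalk (g z)) (Z.presheaf.stalk z)) :=
    inferInstanceAs (IsLocalHom (g.stalkMap z).hom)
  haveI : Module.Flat (W.presheaf.stalk (g z)) (Z.presheaf.stalk z) := Flat.stalkMap g z
  exact depthZero_down h

/-- A flat surjective-stalk map is bijective on stalks. -/
theorem bijective_stalkMap {Z W : Scheme.{u}} (g : Z ⟶ W) [Flat g] [IsPreimmersion g] (z : Z) :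
    Function.Bijective (g.stalkMap z) := by
  refine ⟨?_, g.stalkMap_surjective z⟩
  letI := (g.stalkMap z).hom.toAlgebra
  haveI : IsLocalHom (algebraMap (W.presheaf.stalk (g z)) (Z.presheaf.stalk z)) :=
    inferInstanceAs (IsLocalHom (g.stalkMap z).hom)
  haveI : Module.Flat (W.presheaf.stalk (g z)) (Z.presheaf.stalk z) := Flat.stalkMap g z
  haveI : Module.FaithfullyFlat (W.presheaf.stalk (g z)) (Z.presheaf.stalk z) := Module.FaithfullyFlat.of_flat_of_isLocalHom
  exact FaithfulSMul.algebraMap_injective (W.presheaf.stalk (g z)) (Z.presheaf.stalk z)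

theorem flat_fromSpecResidueField_genericPoint (Z : Scheme.{u}) [IsIntegral Z] :
    Flat (Z.fromSpecResidueField (genericPoint Z)) := by
  refine Flat.of_stalkMap _ fun s => ?_
  letI := ((Z.fromSpecResidueField (genericPoint Z)).stalkMap s).hom.toAlgebra
  have hs : Z.fromSpecResidueField (genericPoint Z) s = genericPoint Z := by simp
  have hF : IsField (Z.presheaf.stalk (Z.fromSpecResidueField (genericPoint Z) s)) := by
    rw [hs]
    exact Semifield.toIsField Z.functionField
  letI := hF.toField
  show Module.Flat _ _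
  infer_instance

/-- A product of integral schemes over a field: associated points are maximal. -/
theorem eq_of_depthZero_product {k : Type u} [Field k] {X Y : Scheme.{u}} (f : X ⟶ Spec (CommRingCat.of k))
    (g : Y ⟶ Spec (CommRingCat.of k)) [IsIntegral X] [IsIntegral Y] {z : ↥(pullback f g)}
    (h : DepthZero ((pullback f g).presheaf.stalk z)) (hzX : pullback.fst f g z = genericPoint X)
    (hzY : pullback.snd f g z = genericPoint Y) {z' : ↥(pullback f g)} (hz : z' ⤳ z) : z' = z := by
  let ξ := genericPoint X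
  let η := genericPoint Y
  obtain ⟨φ, hφ⟩ := Spec.map_surjective (R := CommRingCat.of k) (S := X.residueField ξ) (X.fromSpecResidueField ξ ≫ f)
  obtain ⟨ψ, hψ⟩ := Spec.map_surjective (R := CommRingCat.of k) (S := Y.residueField η) (Y.fromSpecResidueField η ≫ g)
  letI : Algebra k (X.residueField ξ) := φ.hom.toAlgebra
  letI : Algebra k (Y.residueField η) := ψ.hom.toAlgebra
  let a := Spec.map (CommRingCat.ofHom (algebraMap k (X.residueField ξ)))
  let b := Spec.map (CommRingCat.ofHom (algebraMap k (Y.residueField η)))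
  have ha : a ≫ 𝟙 _ = X.fromSpecResidueField ξ ≫ f := (Category.comp_id _).trans hφ
  have hb : b ≫ 𝟙 _ = Y.fromSpecResidueField η ≫ g := (Category.comp_id _).trans hψ
  let m : pullback a b ⟶ pullback f g := pullback.map a b f g _ _ (𝟙 _) ha hb
  haveI := flat_fromSpecResidueField_genericPoint X
  haveI := flat_fromSpecResidueField_genericPoint Y
  haveI : IsPreimmersion m := MorphismProperty.pullbackMap (P := @IsPreimmersion) (i₁ := X.fromSpecResidueField ξ)
    (i₂ := Y.fromSpecResidueField η) inferInstance inferInstance ((Category.comp_id _).symm.trans ha)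
    ((Category.comp_id _).symm.trans hb)
  haveI : Flat m := MorphismProperty.pullbackMap (P := @Flat) (i₁ := X.fromSpecResidueField ξ)
    (i₂ := Y.fromSpecResidueField η) inferInstance inferInstance ((Category.comp_id _).symm.trans ha)
    ((Category.comp_id _).symm.trans hb)
  have hrange : ∀ v, v ⤳ z → v ∈ Set.range m := fun v hv => by
    rw [Scheme.Pullback.range_map, Scheme.range_fromSpecResidueField, Scheme.range_fromSpecResidueField]
    refine ⟨?_, ?_⟩
    · have h1 := hv.map (pullback.fst f g).continuous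
      rw [hzX] at h1
      exact (h1.antisymm ((genericPoint_spec X).specializes (Set.mem_univ _))).eq
    · have h1 := hv.map (pullback.snd f g).continuous
      rw [hzY] at h1
      exact (h1.antisymm ((genericPoint_spec Y).specializes (Set.mem_univ _))).eq
  obtain ⟨v, rfl⟩ := hrange z specializes_rfl
  obtain ⟨v', rfl⟩ := hrange z' hz
  refine congrArg m ?_
  let e : pullback a b ≅ Spec (CommRingCat.of (TensorProduct k (X.residueField ξ) (Y.residueField η))) :=
    pullbackSpecIso k _ _
  let Q : PrimeSpectrum (TensorProduct k (X.residueField ξ) (Y.residueField η)) := e.hom v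
  let P : PrimeSpectrum (TensorProduct k (X.residueField ξ) (Y.residueField η)) := e.hom v'
  have hPQ : P.asIdeal ≤ Q.asIdeal := (PrimeSpectrum.le_iff_specializes P Q).2
    ((m.isEmbedding.isInducing.specializes_iff.1 hz).map e.hom.continuous)
  have h1 : DepthZero ((pullback a b).presheaf.stalk v) :=
    h.of_equiv (RingEquiv.ofBijective (m.stalkMap v).hom (bijective_stalkMap m v))
  have h' : DepthZero (Localization.AtPrime Q.asIdeal) :=
    h1.of_equiv ((asIso (e.hom.stalkMap v)).symm.commRingCatIsoToRingEquiv.trans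
      (StructureSheaf.stalkIso (TensorProduct k (X.residueField ξ) (Y.residueField η)) Q).toRingEquiv.symm)
  exact e.hom.homeomorph.injective (PrimeSpectrum.ext (eq_of_depthZero_tensor_fields Q.asIdeal h' P.asIdeal hPQ))

end Groth.Agent.AssLib
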