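import Groth.Agent.AssLib.Basic
import Groth.Agent.Alg6.AssDepth
import Groth.Agent.KFlatLib.Perfect.LocFree
import Groth.Prelude.Def_FlatMod2
import Mathlib.RingTheory.Flat.TorsionFree

/-!
# Consequences for associated points
-/

set_option autoImplicit false
set_option linter.style.haveILetI false

open AlgebraicGeometry CategoryTheory IsLocalRing TopologicalSpace

namespace Groth.Agent.AssLib

universe u

variable {X : Scheme.{u}} [IsLocallyNoetherian X] {M : X.Modules}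

/-- Associated primes of a stalk come from associated points generizing the point. -/
theorem exists_point_of_ass_stalk (hM : Coh.IsQCoh M) {U : X.Opens} (hU : IsAffineOpen U) {x : X} (hx : x ∈ U)
    {q : Ideal (X.presheaf.stalk x)} (hq : q ∈ associatedPrimes (X.presheaf.stalk x) (M.presheaf.stalk x)) :
    ∃ (y : X) (hyU : y ∈ U), y ∈ AssSch.Ass M ∧ y ⤳ x ∧
      (hU.primeIdealOf ⟨y, hyU⟩).asIdeal = q.comap (X.presheaf.germ U x hx).hom := by
  letI := QCoh.stalkAlg (X := X) hx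
  letI := QCoh.stalkModule M hx
  haveI := QCoh.isScalarTower_stalk M hx
  haveI := QCoh.isLocalization_stalk' hU hx
  haveI := QCoh.isLocalizedModule_germLin hM hU hx
  haveI : IsNoetherianRing Γ(X, U) := IsLocallyNoetherian.component_noetherian ⟨U, hU⟩
  have hq' := hq
  rw [← Module.associatedPrimes.preimage_comap_associatedPrimes_eq_associatedPrimes_of_isLocalizedModule
    (hU.primeIdealOf ⟨x, hx⟩).asIdeal.primeCompl (X.presheaf.stalk x) (QCoh.germLin M hx), Set.mem_preimage] at hq'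
  obtain ⟨y, hyU, hy⟩ := QCoh.exists_point hU ⟨_, hq'.1⟩
  have he : (hU.primeIdealOf ⟨y, hyU⟩).asIdeal = q.comap (X.presheaf.germ U x hx).hom := by rw [hy]; rfl
  refine ⟨y, hyU, (mem_ass_iff hM hU hyU).2 (by rw [he]; exact hq'), (primeIdealOf_le_iff hU hx hyU).1 ?_, he⟩
  rw [he]
  exact le_of_le_of_eq (Ideal.comap_mono (le_maximalIdeal hq.1.ne_top)) (comap_maximalIdeal_stalk hU hx)

theorem forall_isSMulRegular_iff (hM : Coh.IsQCoh M) (g : Γ(X, ⊤)) :
    (∀ x : X, IsSMulRegular (M.presheaf.stalk x) (X.presheaf.germ ⊤ x trivial g)) ↔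
      AssSch.Ass M ⊆ (X.basicOpen g : Set X) := by
  refine ⟨fun h x hx => ?_, fun h x => ?_⟩
  · by_contra hg
    exact Alg6.isSMulRegular_iff_forall_ass.1 (h x) _ hx fun hu => hg ((X.mem_basicOpen (U := ⊤) g x trivial).2 hu)
  · refine Alg6.isSMulRegular_iff_forall_ass.2 fun q hq hgq => ?_
    obtain ⟨U, hU, hx, -⟩ := exists_isAffineOpen_mem_and_subset (x := x) (U := ⊤) trivial
    obtain ⟨y, hyU, hy, -, he⟩ := exists_point_of_ass_stalk hM hU hx hq
    have hgy : y ∈ X.basicOpen (X.presheaf.map (homOfLE le_top).op g : Γ(X, U)) := by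
      rw [Scheme.basicOpen_res]; exact ⟨hyU, h hy⟩
    rw [QCoh.mem_basicOpen_iff_notMem hU hyU, he, Ideal.mem_comap, X.presheaf.germ_res_apply] at hgy
    exact hgy hgq

theorem eq_zero_of_germ_ass (hM : Coh.IsQCoh M) {U : X.Opens} (hU : IsAffineOpen U) (s : Γ(M, U))
    (h : ∀ x (hx : x ∈ U), x ∈ AssSch.Ass M → M.presheaf.germ U x hx s = 0) : s = 0 := by
  by_contra hs
  haveI : IsNoetherianRing Γ(X, U) := IsLocallyNoetherian.component_noetherian ⟨U, hU⟩
  obtain ⟨P, hP, hle⟩ := exists_le_isAssociatedPrime_of_isNoetherianRing Γ(X, U) s hs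
  obtain ⟨y, hyU, hy⟩ := QCoh.exists_point hU ⟨P, hP.1⟩
  have hya : y ∈ AssSch.Ass M := (mem_ass_iff hM hU hyU).2 (by rw [hy]; exact hP)
  obtain ⟨r, hr, hr0⟩ := (QCoh.germ_eq_zero_iff hM hU hyU s).1 (h y hyU hya)
  rw [QCoh.mem_basicOpen_iff_notMem hU hyU, hy] at hr
  exact hr (hle (Submodule.mem_colon_singleton.2 (by rw [hr0]; exact zero_mem _)))

theorem exists_section_of_ass (hM : Coh.IsQCoh M) {U : X.Opens} (hU : IsAffineOpen U) {x : X} (hx : x ∈ U)
    (h : x ∈ AssSch.Ass M) :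
    ∃ s : Γ(M, U), s ≠ 0 ∧ ∀ z (hz : z ∈ U), ¬ x ⤳ z → M.presheaf.germ U z hz s = 0 := by
  haveI : IsNoetherianRing Γ(X, U) := IsLocallyNoetherian.component_noetherian ⟨U, hU⟩
  obtain ⟨hp, s, hs⟩ := isAssociatedPrime_iff.1 ((mem_ass_iff hM hU hx).1 h)
  refine ⟨s, fun h0 => hp.ne_top ?_, fun z hz hxz => ?_⟩
  · rw [hs, h0]
    exact eq_top_iff.2 fun r _ => Submodule.mem_colon_singleton.2 (by simp)
  · obtain ⟨r, hr, hrz⟩ := Set.not_subset.1 (fun hsub => hxz ((primeIdealOf_le_iff hU hz hx).1 hsub))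
    refine (QCoh.germ_eq_zero_iff hM hU hz s).2 ⟨r, (QCoh.mem_basicOpen_iff_notMem hU hz r).2 hrz, ?_⟩
    have hr' : r ∈ (hU.primeIdealOf ⟨x, hx⟩).asIdeal := hr
    rw [hs, Submodule.mem_colon_singleton, Submodule.mem_bot] at hr'
    exact hr'

theorem germ_eq_zero_of_res_eq_zero {U V : X.Opens} (hle : V ≤ U) {z : X} (hz : z ∈ V) (s : Γ(M, U))
    (h : M.presheaf.map (homOfLE hle).op s = 0) : M.presheaf.germ U z (hle hz) s = 0 := by
  rw [← M.presheaf.germ_res_apply (homOfLE hle) z hz s, h, map_zero]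

theorem res_eq_zero_of_germs {U V : X.Opens} (hle : V ≤ U) (s : Γ(M, U))
    (h : ∀ z (hz : z ∈ V), M.presheaf.germ U z (hle hz) s = 0) : M.presheaf.map (homOfLE hle).op s = 0 := by
  refine TopCat.Presheaf.section_ext ⟨M.presheaf, M.isSheaf⟩ V _ _ fun z hz => ?_
  show M.presheaf.germ V z hz _ = M.presheaf.germ V z hz 0
  rw [M.presheaf.germ_res_apply, h z hz, map_zero]

theorem ass_subset_iff (hM : Coh.IsQCoh M) (U : X.Opens) :
    AssSch.Ass M ⊆ (U : Set X) ↔ ∀ (V : X.Opens), IsAffineOpen V → ∀ s : Γ(M, V),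
      M.presheaf.map (homOfLE (inf_le_left : V ⊓ U ≤ V)).op s = 0 → s = 0 := by
  refine ⟨fun h V hV s hs => eq_zero_of_germ_ass hM hV s fun x hx hxa =>
    germ_eq_zero_of_res_eq_zero inf_le_left ⟨hx, h hxa⟩ s hs, fun h x hx => ?_⟩
  by_contra hxU
  obtain ⟨V, hV, hxV, -⟩ := exists_isAffineOpen_mem_and_subset (x := x) (U := ⊤) trivial
  obtain ⟨s, hs0, hs⟩ := exists_section_of_ass hM hV hxV hx
  exact hs0 (h V hV s (res_eq_zero_of_germs _ s fun z hz => hs z hz.1 fun hxz => hxU (hxz.mem_open U.isOpen hz.2)))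

/-- The structure sheaf stalk, linearly. -/
theorem nonempty_stalkUnitEquiv (x : X) :
    Nonempty (X.presheaf.stalk x ≃ₗ[X.presheaf.stalk x] (Coh.structureModule X).presheaf.stalk x) :=
  ⟨KFlatLib.stalkUnitEquiv x⟩

theorem eq_of_specializes_map {Y : Scheme.{u}} (f : X ⟶ Y) [IsLocallyNoetherian Y]
    (hY : AssSch.NoEmbedded (Coh.structureModule Y)) (hfl : FlatMod.IsFlatOver f M) {x : X}
    (hx : x ∈ AssSch.Ass M) {y : Y} (hy : y ⤳ f x) (hO : Coh.IsQCoh (Coh.structureModule Y)) : y = f x := by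
  obtain ⟨e⟩ := nonempty_stalkUnitEquiv (X := Y) (f x)
  have hfx : f x ∈ AssSch.Ass (Coh.structureModule Y) := by
    rw [mem_ass_def, ← LinearEquiv.AssociatedPrimes.eq e]
    by_contra hne
    obtain ⟨a, ha, hreg⟩ := (Alg6.exists_isSMulRegular_mem_iff (M := Y.presheaf.stalk (f x))
      (maximalIdeal (Y.presheaf.stalk (f x)))).2 fun p hp hle => hne
        (((maximalIdeal.isMaximal _).eq_of_le hp.1.ne_top hle) ▸ hp)
    letI := FlatMod.moduleStalkOver f M x
    haveI : Module.Flat (Y.presheaf.stalk (f x)) (M.presheaf.stalk x) := hfl x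
    have hregM : IsSMulRegular (M.presheaf.stalk x) a := Module.Flat.isSMulRegular_of_nonZeroDivisors
      (mem_nonZeroDivisors_iff_right.2 fun z hz => hreg (show a • z = a • 0 by rw [smul_zero, smul_eq_mul, mul_comm]; exact hz))
    exact Alg6.isSMulRegular_iff_forall_ass.1
      (show IsSMulRegular (M.presheaf.stalk x) ((f.stalkMap x).hom a) from fun u v huv => hregM huv) _ hx
      (fun hu => ha (isUnit_of_map_unit (f.stalkMap x).hom a hu))
  have hys : y ∈ CohB1.support (Coh.structureModule Y) := fun hs => by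
    obtain ⟨e'⟩ := nonempty_stalkUnitEquiv (X := Y) y
    exact not_subsingleton (Y.presheaf.stalk y) e'.toEquiv.subsingleton
  obtain ⟨y', hy', hyy⟩ := exists_ass_specializes hO hys
  exact (hy.antisymm (hY (f x) hfx y' hy' (hyy.trans hy) ▸ hyy)).eq

end Groth.Agent.AssLib
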