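import Groth.Agent.QCoh.Stalk
import Groth.Agent.QCoh.Support
import Groth.Agent.KFlatLib.Scheme.Exact
import Groth.Agent.FibDim.Open
import Groth.Prelude.Def_FDesc
import Mathlib.RingTheory.Ideal.AssociatedPrime.Localization
import Mathlib.RingTheory.FiniteLength

/-!
# Associated points of quasi-coherent modules
-/

set_option autoImplicit false
set_option linter.style.haveILetI false

open AlgebraicGeometry CategoryTheory IsLocalRing TopologicalSpace

namespace Groth.Agent.AssLib

universe u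

theorem exists_pow_le_annihilator (R N : Type u) [CommRing R] [IsLocalRing R] [AddCommGroup N] [Module R N]
    [IsNoetherian R N] [IsArtinian R N] : ∃ n, maximalIdeal R ^ n ≤ Module.annihilator R N := by
  let c : ℕ →o (Submodule R N)ᵒᵈ :=
    ⟨fun n => OrderDual.toDual (maximalIdeal R ^ n • (⊤ : Submodule R N)),
      fun a b hab => Submodule.smul_mono_left (Ideal.pow_le_pow_right hab)⟩
  obtain ⟨n, hn⟩ := IsArtinian.monotone_stabilizes c
  refine ⟨n, fun a ha => Module.mem_annihilator.2 fun v => ?_⟩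
  have h : maximalIdeal R ^ n • (⊤ : Submodule R N) = ⊥ := by
    refine Submodule.eq_bot_of_le_smul_of_le_jacobson_bot (maximalIdeal R) _ (IsNoetherian.noetherian _) ?_
      (maximalIdeal_le_jacobson _)
    rw [← Submodule.mul_smul, ← pow_succ']
    exact (OrderDual.toDual.injective (hn (n + 1) n.le_succ)).le
  exact (Submodule.eq_bot_iff _).1 h _ (Submodule.smul_mem_smul ha Submodule.mem_top)

theorem isFiniteLength_of_pow_le_annihilator (R N : Type u) [CommRing R] [IsNoetherianRing R] [IsLocalRing R]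
    [AddCommGroup N] [Module R N] [Module.Finite R N] [Nontrivial N] {n : ℕ}
    (h : maximalIdeal R ^ n ≤ Module.annihilator R N) : IsFiniteLength R N := by
  refine isFiniteLength_iff_isNoetherian_isArtinian.2 ⟨inferInstance, ?_⟩
  let I := Module.annihilator R N
  letI : Module (R ⧸ I) N := Module.quotientAnnihilator
  haveI : IsScalarTower R (R ⧸ I) N := ⟨fun r t v => by
    obtain ⟨t, rfl⟩ := Ideal.Quotient.mk_surjective t
    exact mul_smul r t v⟩
  haveI : Nontrivial (R ⧸ I) := Ideal.Quotient.nontrivial_iff.2 fun htop => by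
    obtain ⟨v, hv⟩ := exists_ne (0 : N)
    have : (1 : R) ∈ I := htop ▸ Submodule.mem_top
    exact hv (by simpa using Module.mem_annihilator.1 this v)
  haveI : IsLocalRing (R ⧸ I) := .of_surjective' _ Ideal.Quotient.mk_surjective
  haveI : IsArtinianRing (R ⧸ I) := by
    refine (isArtinianRing_iff_isNilpotent_maximalIdeal _).2 ⟨n, ?_⟩
    rw [← IsLocalRing.map_maximalIdeal_of_surjective (Ideal.Quotient.mk I) Ideal.Quotient.mk_surjective,
      ← Ideal.map_pow, Ideal.zero_eq_bot, Ideal.map_eq_bot_iff_le_ker, Ideal.mk_ker]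
    exact h
  haveI : Module.Finite (R ⧸ I) N := Module.Finite.of_restrictScalars_finite R _ _
  exact isArtinian_of_surjective_algebraMap (S := R) (R := R ⧸ I) Ideal.Quotient.mk_surjective

variable {X : Scheme.{u}} {M : X.Modules}

theorem mem_ass_def (M : X.Modules) (x : X) :
    x ∈ AssSch.Ass M ↔ maximalIdeal (X.presheaf.stalk x) ∈ associatedPrimes (X.presheaf.stalk x) (M.presheaf.stalk x) :=
  Iff.rfl

theorem primeIdealOf_le_iff {U : X.Opens} (hU : IsAffineOpen U) {x y : X} (hx : x ∈ U) (hy : y ∈ U) :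
    (hU.primeIdealOf ⟨y, hy⟩).asIdeal ≤ (hU.primeIdealOf ⟨x, hx⟩).asIdeal ↔ y ⤳ x := by
  have h := VarDim.fromSpec_specializes_iff hU (hU.primeIdealOf ⟨y, hy⟩) (hU.primeIdealOf ⟨x, hx⟩)
  rw [hU.fromSpec_primeIdealOf, hU.fromSpec_primeIdealOf] at h
  exact h.symm

theorem comap_maximalIdeal_stalk {U : X.Opens} (hU : IsAffineOpen U) {x : X} (hx : x ∈ U) :
    (maximalIdeal (X.presheaf.stalk x)).comap (X.presheaf.germ U x hx).hom = (hU.primeIdealOf ⟨x, hx⟩).asIdeal := by
  letI := QCoh.stalkAlg (X := X) hx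
  haveI := QCoh.isLocalization_stalk' hU hx
  exact IsLocalization.AtPrime.under_maximalIdeal (X.presheaf.stalk x) _

theorem eq_of_primeIdealOf_eq {U : X.Opens} (hU : IsAffineOpen U) {x y : X} (hx : x ∈ U) (hy : y ∈ U)
    (h : (hU.primeIdealOf ⟨y, hy⟩).asIdeal = (hU.primeIdealOf ⟨x, hx⟩).asIdeal) : y = x :=
  (((primeIdealOf_le_iff hU hx hy).1 h.le).antisymm ((primeIdealOf_le_iff hU hy hx).1 h.ge)).eq

variable [IsLocallyNoetherian X]

theorem mem_ass_iff (hM : Coh.IsQCoh M) {U : X.Opens} (hU : IsAffineOpen U) {x : X} (hx : x ∈ U) :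
    x ∈ AssSch.Ass M ↔ (hU.primeIdealOf ⟨x, hx⟩).asIdeal ∈ associatedPrimes Γ(X, U) Γ(M, U) := by
  letI := QCoh.stalkAlg (X := X) hx
  letI := QCoh.stalkModule M hx
  haveI := QCoh.isScalarTower_stalk M hx
  haveI := QCoh.isLocalization_stalk' hU hx
  haveI := QCoh.isLocalizedModule_germLin hM hU hx
  haveI : IsNoetherianRing Γ(X, U) := IsLocallyNoetherian.component_noetherian ⟨U, hU⟩
  rw [mem_ass_def, ← Module.associatedPrimes.preimage_comap_associatedPrimes_eq_associatedPrimes_of_isLocalizedModule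
    (hU.primeIdealOf ⟨x, hx⟩).asIdeal.primeCompl (X.presheaf.stalk x) (QCoh.germLin M hx), Set.mem_preimage]
  exact (congrArg (· ∈ associatedPrimes Γ(X, U) Γ(M, U)) (comap_maximalIdeal_stalk hU hx)).to_iff

theorem mem_support_of_mem_ass {x : X} (h : x ∈ AssSch.Ass M) : x ∈ CohB1.support M := fun hs => by
  haveI := hs
  rw [mem_ass_def, associatedPrimes.eq_empty_of_subsingleton] at h
  exact h

/-- Every point of the support is a specialization of an associated point. -/
theorem exists_ass_specializes (hM : Coh.IsQCoh M) {x : X} (hx : x ∈ CohB1.support M) :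
    ∃ y ∈ AssSch.Ass M, y ⤳ x := by
  obtain ⟨U, hU, hxU, -⟩ := exists_isAffineOpen_mem_and_subset (x := x) (U := ⊤) trivial
  letI := QCoh.stalkAlg (X := X) hxU
  letI := QCoh.stalkModule M hxU
  haveI := QCoh.isScalarTower_stalk M hxU
  haveI := QCoh.isLocalization_stalk' hU hxU
  haveI := QCoh.isLocalizedModule_germLin hM hU hxU
  haveI : IsNoetherianRing Γ(X, U) := IsLocallyNoetherian.component_noetherian ⟨U, hU⟩
  haveI : Nontrivial (M.presheaf.stalk x) := not_subsingleton_iff_nontrivial.1 hx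
  obtain ⟨q, hq⟩ := associatedPrimes.nonempty (X.presheaf.stalk x) (M.presheaf.stalk x)
  rw [← Module.associatedPrimes.preimage_comap_associatedPrimes_eq_associatedPrimes_of_isLocalizedModule
    (hU.primeIdealOf ⟨x, hxU⟩).asIdeal.primeCompl (X.presheaf.stalk x) (QCoh.germLin M hxU), Set.mem_preimage] at hq
  obtain ⟨y, hyU, hy⟩ := QCoh.exists_point hU ⟨_, hq.1⟩
  refine ⟨y, (mem_ass_iff hM hU hyU).2 (by rw [hy]; exact hq), (primeIdealOf_le_iff hU hxU hyU).1 ?_⟩
  rw [hy]
  show q.comap _ ≤ _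
  refine le_of_le_of_eq (Ideal.comap_mono (le_maximalIdeal ?_)) (comap_maximalIdeal_stalk hU hxU)
  exact fun h => hq.1.ne_top (by rw [h, Ideal.comap_top])

theorem isFiniteLength_stalk_iff (hM : Coh.IsCoh M) (x : X) :
    IsFiniteLength (X.presheaf.stalk x) (M.presheaf.stalk x) ↔
      ∀ y ∈ CohB1.support M, y ⤳ x → y = x := by
  obtain ⟨U, hU, hxU, -⟩ := exists_isAffineOpen_mem_and_subset (x := x) (U := ⊤) trivial
  letI := QCoh.stalkAlg (X := X) hxU
  letI := QCoh.stalkModule M hxU
  haveI := QCoh.isScalarTower_stalk M hxU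
  haveI := QCoh.isLocalization_stalk' hU hxU
  haveI := QCoh.isLocalizedModule_germLin hM.1 hU hxU
  haveI : IsNoetherianRing Γ(X, U) := IsLocallyNoetherian.component_noetherian ⟨U, hU⟩
  haveI : Module.Finite Γ(X, U) Γ(M, U) := (QCoh.isCoh_iff.1 hM).2 ⟨U, hU⟩
  haveI : Module.Finite (X.presheaf.stalk x) (M.presheaf.stalk x) :=
    Module.Finite.of_isLocalizedModule (hU.primeIdealOf ⟨x, hxU⟩).asIdeal.primeCompl
      (Rₚ := X.presheaf.stalk x) (QCoh.germLin M hxU)
  constructor
  · intro h y hy hyx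
    have hyU : y ∈ U := hyx.mem_open U.isOpen hxU
    haveI : IsArtinian (X.presheaf.stalk x) (M.presheaf.stalk x) :=
      (isFiniteLength_iff_isNoetherian_isArtinian.1 h).2
    obtain ⟨n, hn⟩ := exists_pow_le_annihilator (X.presheaf.stalk x) (M.presheaf.stalk x)
    refine eq_of_primeIdealOf_eq hU hxU hyU (le_antisymm ((primeIdealOf_le_iff hU hxU hyU).2 hyx) fun a ha => ?_)
    by_contra hay
    obtain ⟨m, hm⟩ := (Module.mem_support_iff').1 ((QCoh.mem_moduleSupport_iff hM.1 hU hyU).2 hy)
    have ha' : (X.presheaf.germ U x hxU).hom a ∈ maximalIdeal (X.presheaf.stalk x) := by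
      rw [← Ideal.mem_comap, comap_maximalIdeal_stalk hU hxU]; exact ha
    have h0 : (a ^ n) • QCoh.germLin M hxU m = 0 := by
      rw [← algebraMap_smul (X.presheaf.stalk x) (a ^ n) (QCoh.germLin M hxU m), map_pow]
      exact Module.mem_annihilator.1 (hn (Ideal.pow_mem_pow ha' n)) _
    rw [← map_smul] at h0
    obtain ⟨⟨s, hs⟩, hs0⟩ := (IsLocalizedModule.eq_zero_iff (hU.primeIdealOf ⟨x, hxU⟩).asIdeal.primeCompl
      (QCoh.germLin M hxU)).1 h0
    refine hm (s * a ^ n) (fun hmem => ?_) (by rw [mul_smul]; exact hs0)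
    rcases (Ideal.IsPrime.mem_or_mem (PrimeSpectrum.isPrime _) hmem) with h1 | h1
    · exact hs ((primeIdealOf_le_iff hU hxU hyU).2 hyx h1)
    · exact hay (Ideal.IsPrime.mem_of_pow_mem (PrimeSpectrum.isPrime _) n h1)
  · intro h
    rcases subsingleton_or_nontrivial (M.presheaf.stalk x) with hs | hn
    · exact .of_subsingleton
    haveI : Nontrivial (M.presheaf.stalk x) := hn
    obtain ⟨I, hI⟩ : ∃ I, I = Module.annihilator (X.presheaf.stalk x) (M.presheaf.stalk x) := ⟨_, rfl⟩
    have hrad : maximalIdeal (X.presheaf.stalk x) ≤ I.radical := by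
      rw [Ideal.radical_eq_sInf]
      refine le_sInf fun q ⟨hle, hq⟩ => ?_
      haveI := hq
      have hsupp : (⟨q, hq⟩ : PrimeSpectrum (X.presheaf.stalk x)) ∈
          Module.support (X.presheaf.stalk x) (M.presheaf.stalk x) :=
        Module.mem_support_iff_of_finite.2 (hI ▸ hle)
      have hq' : (q.comap (X.presheaf.germ U x hxU).hom).IsPrime := Ideal.IsPrime.comap _
      obtain ⟨y, hyU, hy⟩ := QCoh.exists_point hU ⟨_, hq'⟩
      have hyx : y ⤳ x := (primeIdealOf_le_iff hU hxU hyU).1 (by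
        rw [hy]
        exact le_of_le_of_eq (Ideal.comap_mono (le_maximalIdeal hq.ne_top)) (comap_maximalIdeal_stalk hU hxU))
      have hys : y ∈ CohB1.support M := by
        rw [← QCoh.mem_moduleSupport_iff hM.1 hU hyU, Module.mem_support_iff']
        obtain ⟨v, hv⟩ := Module.mem_support_iff'.1 hsupp
        obtain ⟨⟨m, s⟩, hms⟩ := IsLocalizedModule.surj (hU.primeIdealOf ⟨x, hxU⟩).asIdeal.primeCompl
          (QCoh.germLin M hxU) v
        refine ⟨m, fun r hr h0 => ?_⟩
        have h2 := congrArg (r • ·) hms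
        simp only [← map_smul, h0, map_zero] at h2
        replace h2 : (r * (s : Γ(X, U))) • v = 0 := (mul_smul _ _ v).trans h2
        rw [← algebraMap_smul (X.presheaf.stalk x) (r * (s : Γ(X, U))) v] at h2
        refine hv _ (fun hmem => ?_) h2
        rw [hy] at hr
        rcases Ideal.IsPrime.mem_or_mem hq' (show r * (s : Γ(X, U)) ∈ q.comap (X.presheaf.germ U x hxU).hom from hmem)
          with h1 | h1
        · exact hr h1
        · exact s.2 (le_of_le_of_eq (Ideal.comap_mono (le_maximalIdeal hq.ne_top))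
            (comap_maximalIdeal_stalk hU hxU) h1)
      obtain rfl := h y hys hyx
      refine le_of_eq ((Ideal.IsMaximal.eq_of_le (maximalIdeal.isMaximal _) hq.ne_top fun t ht => ?_))
      obtain ⟨⟨a, s⟩, has⟩ := IsLocalization.surj (hU.primeIdealOf ⟨y, hxU⟩).asIdeal.primeCompl t
      have hu := IsLocalization.map_units (X.presheaf.stalk y) s
      have ha : a ∈ (hU.primeIdealOf ⟨y, hxU⟩).asIdeal := by
        rw [← comap_maximalIdeal_stalk hU hxU, Ideal.mem_comap]
        exact has ▸ Ideal.mul_mem_right _ _ ht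
      have : algebraMap Γ(X, U) (X.presheaf.stalk y) a ∈ q := by
        rw [hy] at ha; exact ha
      rw [← has] at this
      exact (hq.mem_or_mem this).resolve_right fun h' => hq.ne_top (Ideal.eq_top_of_isUnit_mem _ h' hu)
    obtain ⟨n, hn'⟩ := Ideal.exists_pow_le_of_le_radical_of_fg hrad (IsNoetherian.noetherian _)
    exact isFiniteLength_of_pow_le_annihilator _ _ (hI ▸ hn')

end Groth.Agent.AssLib
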