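import Groth.Agent.AssPtX.Noeth
import Groth.Agent.CycLib.StalkSES
import Mathlib.RingTheory.Length
import Groth.Prelude.Def_FDesc

/-! # Associated points and stalk lengths of restrictions to open subschemes -/

universe u

open CategoryTheory AlgebraicGeometry TopologicalSpace

set_option backward.isDefEq.respectTransparency false
set_option backward.isDefEq.respectTransparency.types false

namespace Groth.Agent.AssLib

open Groth.Agent

variable {X Y : Scheme.{u}} (j : X ⟶ Y) [IsOpenImmersion j] (M : Y.Modules)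

theorem exists_semilinear_restrict (z : X) :
    ∃ e : (M.restrict j).presheaf.stalk z ≃+ M.presheaf.stalk (j.base z),
      ∀ (a : Y.presheaf.stalk (j.base z)) m, e ((j.stalkMap z).hom a • m) = a • e m := by
  let η := (Scheme.Modules.restrictStalkNatIso j z).app M
  refine ⟨η.addCommGroupIsoToAddEquiv, fun a m => ?_⟩
  have hg : ∀ (V : X.Opens) (hV : z ∈ V) (s : Γ(M, j ''ᵁ V)),
      η.hom ((M.restrict j).presheaf.germ V z hV s) =
        M.presheaf.germ (j ''ᵁ V) (j.base z) ⟨z, hV, rfl⟩ s := fun V hV s =>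
    ConcreteCategory.congr_hom (Scheme.Modules.germ_restrictStalkNatIso_hom_app j z M hV) s
  obtain ⟨V, hV, s, rfl⟩ := (M.restrict j).presheaf.germ_exist m
  obtain ⟨W, hW, t, rfl⟩ := Y.presheaf.germ_exist a
  let V' : X.Opens := V ⊓ j ⁻¹ᵁ W
  have hV' : z ∈ V' := ⟨hV, hW⟩
  have hle : j ''ᵁ V' ≤ W := by rintro _ ⟨y, ⟨-, hy⟩, rfl⟩; exact hy
  have hz' : j.base z ∈ j ''ᵁ V' := ⟨z, hV', rfl⟩
  have hsm : (j.stalkMap z).hom (Y.presheaf.germ W (j.base z) hW t) =
      X.presheaf.germ V' z hV'
        ((j.appIso V').hom (Y.presheaf.map (homOfLE hle).op t)) := by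
    rw [← Y.presheaf.germ_res_apply (homOfLE hle) (j.base z) hz' t]
    erw [Scheme.Hom.germ_stalkMap_apply]
    rw [Scheme.Hom.appIso_hom']
    erw [← X.presheaf.germ_res_apply (homOfLE (show V' ≤ j ⁻¹ᵁ (j ''ᵁ V') from
      (j.preimage_image_eq V').ge)) z hV']
    rfl
  rw [hsm, ← (M.restrict j).presheaf.germ_res_apply (homOfLE (inf_le_left : V' ≤ V)) z hV' s,
    ← QCoh.germ_smul' (M.restrict j) hV']
  change η.hom _ = (_ : Y.presheaf.stalk (j.base z)) • (show M.presheaf.stalk (j.base z) from η.hom _)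
  rw [hg, hg, ← Y.presheaf.germ_res_apply (homOfLE hle) (j.base z) hz' t, ← QCoh.germ_smul' M hz']
  congr 1
  have := ConcreteCategory.congr_hom (Scheme.Modules.smul_restrictAppIso_hom j M V'
    ((j.appIso V').hom (Y.presheaf.map (homOfLE hle).op t)))
    ((M.restrict j).presheaf.map (homOfLE (inf_le_left : V' ≤ V)).op s)
  refine this.trans ?_
  simp only [Iso.hom_inv_id_apply]
  rfl

theorem exists_semilinear_pullback (z : X) :
    ∃ e : ((Scheme.Modules.pullback j).obj M).presheaf.stalk z ≃+ M.presheaf.stalk (j.base z),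
      ∀ (a : Y.presheaf.stalk (j.base z)) m, e ((j.stalkMap z).hom a • m) = a • e m := by
  obtain ⟨e, he⟩ := exists_semilinear_restrict j M z
  let φ := (Scheme.Modules.restrictFunctorIsoPullback j).app M
  let L := CycLib.stalkLin φ.hom z
  have hb : Function.Bijective L := (ConcreteCategory.bijective_of_isIso
    ((TopCat.Presheaf.stalkFunctor Ab.{u} z).map ((Scheme.Modules.toPresheaf X).map φ.hom)))
  refine ⟨(LinearEquiv.ofBijective L hb).toAddEquiv.symm.trans e, fun a m => ?_⟩
  obtain ⟨m', rfl⟩ := hb.2 m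
  change e ((LinearEquiv.ofBijective L hb).symm _) = _ • e ((LinearEquiv.ofBijective L hb).symm _)
  rw [← map_smul L, LinearEquiv.ofBijective_symm_apply_apply, LinearEquiv.ofBijective_symm_apply_apply, he]

theorem mem_ass_pullback_iff (z : X) :
    z ∈ AssSch.Ass ((Scheme.Modules.pullback j).obj M) ↔ j.base z ∈ AssSch.Ass M := by
  obtain ⟨e, he⟩ := exists_semilinear_pullback j M z
  change Curv2.IsAssPoint _ _ ↔ Curv2.IsAssPoint _ _
  rw [AssPtX.isAssPoint_iff, AssPtX.isAssPoint_iff, AssPtX.isWeakAssPoint_iff, AssPtX.isWeakAssPoint_iff]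
  let σ : Y.presheaf.stalk (j.base z) ≃+* X.presheaf.stalk z := (asIso (j.stalkMap z)).commRingCatIsoToRingEquiv
  rw [AssPtX.mem_weakAss_equiv σ e.symm (fun r m => e.injective (by
    rw [AddEquiv.apply_symm_apply]
    exact (by rw [show σ r • e.symm m = (j.stalkMap z).hom r • e.symm m from rfl, he,
      AddEquiv.apply_symm_apply] : e (σ r • e.symm m) = r • m).symm))]
  rw [show (IsLocalRing.maximalIdeal (X.presheaf.stalk z)).comap σ.toRingHom =
    IsLocalRing.maximalIdeal _ from haveI : IsLocalHom σ.toRingHom := ⟨fun a ha => (MulEquiv.isUnit_map σ.toMulEquiv).1 ha⟩; IsLocalRing.maximalIdeal_comap σ.toRingHom]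

theorem length_pullback (z : X) :
    Module.length (X.presheaf.stalk z) (((Scheme.Modules.pullback j).obj M).presheaf.stalk z) =
      Module.length (Y.presheaf.stalk (j.base z)) (M.presheaf.stalk (j.base z)) := by
  obtain ⟨e, he⟩ := exists_semilinear_pullback j M z
  letI : Algebra (Y.presheaf.stalk (j.base z)) (X.presheaf.stalk z) := (j.stalkMap z).hom.toAlgebra
  letI : Module (Y.presheaf.stalk (j.base z)) (((Scheme.Modules.pullback j).obj M).presheaf.stalk z) :=
    Module.compHom _ (j.stalkMap z).hom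
  haveI : IsScalarTower (Y.presheaf.stalk (j.base z)) (X.presheaf.stalk z)
      (((Scheme.Modules.pullback j).obj M).presheaf.stalk z) := IsScalarTower.of_algebraMap_smul fun _ _ => rfl
  rw [← Module.length_eq_of_surjective (S := Y.presheaf.stalk (j.base z)) (R := X.presheaf.stalk z)
    (show Function.Surjective (j.stalkMap z).hom from (ConcreteCategory.bijective_of_isIso (j.stalkMap z)).2)]
  exact LinearEquiv.length_eq ({ e with map_smul' := fun a m => he a m } : _ ≃ₗ[Y.presheaf.stalk (j.base z)] _)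

end Groth.Agent.AssLib
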